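import Groth.Agent.Coh69.LocCohom
import Groth.Agent.Coh69.AffVanish

/-! First cohomology from two opens. -/

universe u

open CategoryTheory Limits TopologicalSpace Opposite CategoryTheory.Abelian

namespace Groth.Agent.CrvFF30

open Groth.Agent.Coh69

variable {T : TopCat.{u}} (F : Sheaf (Opens.grothendieckTopology T) AddCommGrpCat.{u}) (U V : Opens T)

/-- The free sheaf on an open. -/
noncomputable abbrev zFree (W : Opens T) : Sheaf (Opens.grothendieckTopology T) AddCommGrpCat.{u} :=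
  CohCx.freeSheaf (Opens.grothendieckTopology T) W

/-- The first map of Mayer-Vietoris. -/
noncomputable abbrev mvF : zFree (U ⊓ V) ⟶ zFree U ⊞ zFree V :=
  biprod.lift (fmap (inf_le_left : U ⊓ V ≤ U)) (-fmap (inf_le_right : U ⊓ V ≤ V))

/-- The second map of Mayer-Vietoris. -/
noncomputable abbrev mvG : zFree U ⊞ zFree V ⟶ zFree (U ⊔ V) :=
  biprod.desc (fmap (le_sup_left : U ≤ U ⊔ V)) (fmap (le_sup_right : V ≤ U ⊔ V))

theorem mv_shortExact : ∃ w : mvF U V ≫ mvG U V = 0, (ShortComplex.mk (mvF U V) (mvG U V) w).ShortExact :=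
  ⟨(Opens.mayerVietorisSquare U V).shortComplex.zero,
    (Opens.mayerVietorisSquare U V).shortComplex_shortExact⟩

/-- The connecting class of Mayer-Vietoris. -/
noncomputable def mvClass : Ext.{u} (zFree (U ⊔ V)) (zFree (U ⊓ V)) 1 :=
  (mv_shortExact U V).choose_spec.extClass

/-- The connecting map of the Mayer-Vietoris sequence. -/
noncomputable def mvDelta : F.obj.obj (op (U ⊓ V)) →+ HE F 1 (U ⊔ V) :=
  AddMonoidHom.comp ((mvClass U V).precomp F (add_zero 1))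
    (SiteCoh.hu0Equiv F (U ⊓ V)).symm.toAddMonoidHom

theorem mvDelta_apply (x : F.obj.obj (op (U ⊓ V))) :
    mvDelta F U V x = (mvClass U V).comp ((SiteCoh.hu0Equiv F (U ⊓ V)).symm x) (add_zero 1) := rfl

theorem mvDelta_surjective (hU : Subsingleton (HE F 1 U))
    (hV : Subsingleton (HE F 1 V)) : Function.Surjective (mvDelta F U V) := by
  intro ξ
  have h2 : Subsingleton (Ext.{u} (zFree U ⊞ zFree V) F 1) :=
    @ext_subsingleton_biprod _ _ _ _ F _ _ 1 hU hV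
  obtain ⟨x₁, hx₁⟩ := Ext.contravariant_sequence_exact₃ (mv_shortExact U V).choose_spec F ξ
    (h2.elim _ _) (add_zero 1)
  refine ⟨SiteCoh.hu0Equiv F (U ⊓ V) x₁, ?_⟩
  rw [mvDelta_apply]
  rw [AddEquiv.symm_apply_apply]
  exact hx₁

theorem mvF_desc (φ₁ : zFree U ⟶ F) (φ₂ : zFree V ⟶ F) : mvF U V ≫ biprod.desc φ₁ φ₂ =
    fmap (inf_le_left : U ⊓ V ≤ U) ≫ φ₁ - fmap (inf_le_right : U ⊓ V ≤ V) ≫ φ₂ := by
  rw [biprod.lift_desc, Preadditive.neg_comp, sub_eq_add_neg]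

theorem mvDelta_eq_zero_iff (x : F.obj.obj (op (U ⊓ V))) :
    mvDelta F U V x = 0 ↔ ∃ (s : F.obj.obj (op U)) (t : F.obj.obj (op V)),
      F.obj.map (homOfLE (inf_le_left : U ⊓ V ≤ U)).op s -
        F.obj.map (homOfLE (inf_le_right : U ⊓ V ≤ V)).op t = x := by
  constructor
  · intro hx
    obtain ⟨y, hy⟩ := Ext.contravariant_sequence_exact₁ (mv_shortExact U V).choose_spec F
      ((SiteCoh.hu0Equiv F (U ⊓ V)).symm x) (add_zero 1) hx
    obtain ⟨φ, rfl⟩ : ∃ φ : zFree U ⊞ zFree V ⟶ F, Ext.mk₀ φ = y :=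
      ⟨Ext.addEquiv₀ y, Ext.addEquiv₀.symm_apply_apply y⟩
    obtain ⟨φ₁, φ₂, rfl⟩ : ∃ φ₁ φ₂, φ = biprod.desc φ₁ φ₂ :=
      ⟨biprod.inl ≫ φ, biprod.inr ≫ φ, biprod.hom_ext' _ _ (by simp) (by simp)⟩
    refine ⟨SiteCoh.homAddEquivSec U F φ₁, SiteCoh.homAddEquivSec V F φ₂, ?_⟩
    rw [← SiteCoh.homAddEquivSec_freeSheafMap_comp, ← SiteCoh.homAddEquivSec_freeSheafMap_comp,
      ← map_sub]
    apply (SiteCoh.homAddEquivSec (U ⊓ V) F).symm.injective
    rw [AddEquiv.symm_apply_apply]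
    refine Ext.addEquiv₀.symm.injective ?_
    refine Eq.trans ?_ hy
    refine Eq.trans ?_ (Ext.mk₀_comp_mk₀ _ _).symm
    exact congrArg (fun z : zFree (U ⊓ V) ⟶ F => Ext.mk₀ z) (mvF_desc F U V φ₁ φ₂).symm
  · rintro ⟨s, t, rfl⟩
    have h1 : (SiteCoh.hu0Equiv F (U ⊓ V)).symm
        (F.obj.map (homOfLE (inf_le_left : U ⊓ V ≤ U)).op s -
          F.obj.map (homOfLE (inf_le_right : U ⊓ V ≤ V)).op t) =
        (Ext.mk₀ (mvF U V)).comp (Ext.mk₀ (biprod.desc ((SiteCoh.homAddEquivSec U F).symm s)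
          ((SiteCoh.homAddEquivSec V F).symm t))) (zero_add 0) := by
      rw [Ext.mk₀_comp_mk₀, mvF_desc, SiteCoh.hu0Equiv_symm_apply, map_sub,
        ← SiteCoh.freeSheafMap_comp_symm, ← SiteCoh.freeSheafMap_comp_symm]
    rw [mvDelta_apply]
    rw [h1]
    exact (mv_shortExact U V).choose_spec.extClass_comp_assoc _

/-- First cohomology as the cokernel of the difference of restrictions. -/
theorem nonempty_H1_equiv (hUV : U ⊔ V = ⊤) (hU : Subsingleton (HE F 1 U))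
    (hV : Subsingleton (HE F 1 V)) {B : Type*} [AddCommGroup B]
    (d : F.obj.obj (op (U ⊓ V)) →+ B) (hd : Function.Surjective d)
    (hker : ∀ x, d x = 0 ↔ ∃ (s : F.obj.obj (op U)) (t : F.obj.obj (op V)),
      F.obj.map (homOfLE (inf_le_left : U ⊓ V ≤ U)).op s -
        F.obj.map (homOfLE (inf_le_right : U ⊓ V ≤ V)).op t = x) :
    Nonempty (HE F 1 (⊤ : Opens T) ≃+ B) := by
  rw [← hUV]
  have heq : (mvDelta F U V).ker = d.ker := by
    ext x
    rw [AddMonoidHom.mem_ker, AddMonoidHom.mem_ker, hker, mvDelta_eq_zero_iff]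
  exact ⟨((QuotientAddGroup.quotientKerEquivOfSurjective (φ := mvDelta F U V)
    (mvDelta_surjective F U V hU hV)).symm.trans (QuotientAddGroup.quotientAddEquivOfEq heq)).trans
    (QuotientAddGroup.quotientKerEquivOfSurjective (φ := d) hd)⟩

end Groth.Agent.CrvFF30
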