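import Groth.Agent.Curves2.CurvePlaces
import Groth.Agent.Curves2.SmoothNormal
import Groth.Agent.VarGal.GenIrred
import Groth.Agent.FF30.RH
import Groth.Prelude.Def_Curve

/-! The function field of a smooth proper curve: closed points are places. -/

set_option autoImplicit false
set_option linter.style.haveILetI false

universe u

open CategoryTheory AlgebraicGeometry TopologicalSpace IsLocalRing FunFld

namespace Groth.Agent.CrvFF30

variable {k : Type u} [Field k] {C : Scheme.{u}} [IsIntegral C] (f : C ⟶ Spec (CommRingCat.of k))

/-- The structure of `k`-algebra on the function field. -/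
noncomputable abbrev kAlg : Algebra k C.functionField := (Cyc90.kStalk f (genericPoint C)).toAlgebra

omit [IsIntegral C] in
theorem resMap_eq_kStr (x : C) :
    (letI : C.Over (Spec (CommRingCat.of k)) := ⟨f⟩; Curv2.resMap k C x) = WC97.kStr f x := by
  letI : C.Over (Spec (CommRingCat.of k)) := ⟨f⟩
  have h : CommRingCat.ofHom (Curv2.resMap k C x) = CommRingCat.ofHom (WC97.kStr f x) := by
    apply Spec.map_injective
    rw [WC97.kStr_spec]
    exact VarGal.SpecMap_resMap x
  exact congrArg CommRingCat.Hom.hom h

theorem stalks_valuationRing [Smooth f] (hdim : topologicalKrullDim C = 1) (y : C) :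
    ∃ _ : IsDomain (C.presheaf.stalk y), ValuationRing (C.presheaf.stalk y) :=
  ⟨inferInstance, Curves2.valuationRing_stalk_of_smooth f hdim.le y⟩

/-- A geometrically irreducible proper curve over a perfect field gives a function field. -/
theorem isFunctionField [PerfectField k] [IsProper f] [GeometricallyIrreducible f]
    (hdim : topologicalKrullDim C = 1) :
    letI := kAlg f
    IsFunctionField k C.functionField := by
  letI := kAlg f
  refine ⟨Cyc90.ff_functionField f hdim, fun a ha => ?_⟩
  letI : C.Over (Spec (CommRingCat.of k)) := ⟨f⟩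
  letI := Curv2.resAlgebra k C (genericPoint C)
  have : GeometricallyIrreducible (C ↘ Spec (CommRingCat.of k)) := ‹GeometricallyIrreducible f›
  let φ : C.functionField →ₐ[k] C.residueField (genericPoint C) :=
    { (C.residue (genericPoint C)).hom with
      commutes' := fun r => (RingHom.congr_fun (Cyc90.kStr_eq_residue f (genericPoint C)) r).symm.trans
        (RingHom.congr_fun (resMap_eq_kStr f (genericPoint C)) r).symm }
  have hsep : _root_.IsSeparable k (φ a) := by
    unfold _root_.IsSeparable
    rw [minpoly.algHom_eq φ φ.toRingHom.injective a]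
    exact PerfectField.separable_of_irreducible (minpoly.irreducible ha.isIntegral)
  obtain ⟨r, hr⟩ := VarGal.separable_elements_of_geometricallyIrreducible (φ a) hsep
  exact ⟨r, φ.toRingHom.injective ((φ.commutes r).trans hr)⟩

/-- Closed points of a smooth proper curve are its places, with the same degrees. -/
theorem exists_pointEquiv [IsProper f] [Smooth f] (hdim : topologicalKrullDim C = 1) :
    letI := kAlg f
    ∃ e : {x : C // IsClosed ({x} : Set C)} ≃ Place k C.functionField,
      ∀ x, (∀ z, (e x).1 z ≤ 1 ↔ Curves2.RegAt x.1 z) ∧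
        (e x).deg = (letI := (WC97.kStr f x.1).toAlgebra; Module.finrank k (C.residueField x.1)) := by
  classical
  letI := kAlg f
  have hval := stalks_valuationRing f hdim
  choose p hp hc using Curves2.exists_place_at f hdim hval
  choose ctr hctr huniq using Cyc90.existsUnique_centre f hdim
  have hv := fun (P Q : Place k C.functionField) (h : ∀ z, P.1 z ≤ 1 ↔ Q.1 z ≤ 1) =>
    FF30.place_ext_O (P := P) (Q := Q) (SetLike.ext fun z => h z)
  let e : {x : C // IsClosed ({x} : Set C)} ≃ Place k C.functionField :=
    { toFun := fun x => p x.1 x.2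
      invFun := fun P => ⟨ctr P, (hctr P).1⟩
      left_inv := fun x => Subtype.ext (huniq _ x.1 ⟨x.2, hc x.1 x.2⟩).symm
      right_inv := fun P => by
        refine hv _ _ fun z => ⟨fun hz => ?_, fun hz => ?_⟩
        · obtain ⟨b, rfl⟩ := (hp _ (hctr P).1 z).1 hz
          exact ((hctr P).2 b).1
        · obtain ⟨_, _⟩ := hval (ctr P)
          rcases ValuationRing.isInteger_or_isInteger (C.presheaf.stalk (ctr P)) z with h | ⟨b, hb⟩
          · exact (hp _ (hctr P).1 z).2 h
          · refine (hp _ (hctr P).1 z).2 ?_
            by_cases hz0 : z = 0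
            · exact ⟨0, by rw [map_zero, hz0]⟩
            by_cases hu : IsUnit b
            · obtain ⟨v, rfl⟩ := hu
              exact ⟨(v⁻¹ : (C.presheaf.stalk (ctr P))ˣ), by
                rw [map_units_inv, hb, inv_inv]⟩
            · have hlt := ((hctr P).2 b).2 ((mem_maximalIdeal b).2 hu)
              rw [hb, map_inv₀] at hlt
              have hpos : 0 < P.1 z := zero_lt_iff.2 ((Valuation.ne_zero_iff _).2 hz0)
              exact absurd ((inv_lt_one₀ hpos).1 hlt) (not_lt.2 hz) }
  refine ⟨e, fun x => ⟨hp x.1 x.2, ?_⟩⟩
  set P := p x.1 x.2 with hP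
  let A := C.presheaf.stalk x.1
  let ψ : A →+* P.O :=
    (algebraMap A C.functionField).codRestrict P.O fun a => (hc x.1 x.2 a).1
  have hψ : Function.Bijective ψ := by
    refine ⟨fun a b hab => IsFractionRing.injective A C.functionField (congrArg Subtype.val hab), fun z => ?_⟩
    obtain ⟨b, hb⟩ := (hp x.1 x.2 z.1).1 z.2
    exact ⟨b, Subtype.ext hb⟩
  let E := RingEquiv.ofBijective ψ hψ
  letI : Algebra k (ResidueField A) := (WC97.kStr f x.1).toAlgebra
  show Module.finrank k (ResidueField P.O) = Module.finrank k (ResidueField A)
  refine (Algebra.finrank_eq_of_equiv_equiv (RingEquiv.refl k) (ResidueField.mapEquiv E) ?_).symm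
  refine RingHom.ext fun a => ?_
  change residue P.O (algebraMap k P.O a) =
    ResidueField.mapEquiv E (WC97.kStr f x.1 a : ResidueField A)
  rw [Cyc90.kStr_eq_residue]
  refine congrArg (residue P.O) (Subtype.ext ?_)
  exact (RingHom.congr_fun (Cyc90.kStalk_specializes f ((genericPoint_spec C).specializes (y := x.1) trivial)) a).symm

end Groth.Agent.CrvFF30
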