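import Groth.Agent.CrvFF30.Basic
import Groth.Prelude.Def_SgaExt
import Mathlib.FieldTheory.Finite.GaloisField

/-! Rational points of a curve over finite fields in terms of places. -/

set_option autoImplicit false
set_option linter.style.haveILetI false

universe u

open CategoryTheory AlgebraicGeometry TopologicalSpace IsLocalRing FunFld

namespace Groth.Agent.CrvFF30

variable {k : Type u} [Field k] {C : Scheme.{u}} (f : C ⟶ Spec (CommRingCat.of k))

/-- Points with values in a field over `k`. -/
noncomputable def pointsEquiv (k' : Type u) [Field k'] [Algebra k k'] :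
    { g : Spec (CommRingCat.of k') ⟶ C // g ≫ f = Spec.map (CommRingCat.ofHom (algebraMap k k')) } ≃
      Σ x : C, { φ : C.residueField x ⟶ CommRingCat.of k' //
        φ.hom.comp (WC97.kStr f x) = algebraMap k k' } :=
  ((Scheme.SpecToEquivOfField k' C).subtypeEquiv (q := fun σ => σ.2.hom.comp (WC97.kStr f σ.1) = algebraMap k k')
    fun g => by
      obtain ⟨σ, rfl⟩ := (Scheme.SpecToEquivOfField k' C).symm.surjective g
      rw [Equiv.apply_symm_apply, Scheme.SpecToEquivOfField_symm_apply, Category.assoc, ← WC97.kStr_spec,
        ← Spec.map_comp]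
      exact ⟨fun h => congrArg CommRingCat.Hom.hom (Spec.map_injective h),
        fun h => congrArg (fun ψ => Spec.map ψ) (CommRingCat.hom_ext h)⟩).trans
    ⟨fun σ => ⟨σ.1.1, σ.1.2, σ.2⟩, fun σ => ⟨⟨σ.1, σ.2.1⟩, σ.2.2⟩, fun _ => rfl, fun _ => rfl⟩

theorem card_fibre [Finite k] (k' : Type u) [Field k'] [Algebra k k'] [Finite k'] (x : C) :
    Nat.card { φ : C.residueField x ⟶ CommRingCat.of k' //
        φ.hom.comp (WC97.kStr f x) = algebraMap k k' } =
      (letI := (WC97.kStr f x).toAlgebra
       if Module.finrank k (C.residueField x) ∣ Module.finrank k k' then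
        Module.finrank k (C.residueField x) else 0) := by
  letI : Algebra k (C.residueField x) := (WC97.kStr f x).toAlgebra
  have e : { φ : C.residueField x ⟶ CommRingCat.of k' //
      φ.hom.comp (WC97.kStr f x) = algebraMap k k' } ≃ (C.residueField x →ₐ[k] k') :=
    { toFun := fun φ => { φ.1.hom with commutes' := fun r => RingHom.congr_fun φ.2 r }
      invFun := fun φ => ⟨CommRingCat.ofHom φ.toRingHom, RingHom.ext φ.commutes⟩
      left_inv := fun _ => rfl
      right_inv := fun _ => rfl }
  rw [Nat.card_congr e]
  by_cases hne : Nonempty (C.residueField x →ₐ[k] k')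
  · obtain ⟨φ⟩ := hne
    have : Finite (C.residueField x) := Finite.of_injective φ φ.toRingHom.injective
    have hd := FiniteField.nonempty_algHom_iff_finrank_dvd.1 ⟨φ⟩
    rw [if_pos hd, FiniteField.natCard_algHom_of_finrank_dvd hd]
  · rw [not_nonempty_iff] at hne
    rw [Nat.card_of_isEmpty]
    split_ifs with hd
    · by_contra h0
      have : Module.Finite k (C.residueField x) := Module.finite_of_finrank_pos (Nat.pos_of_ne_zero (Ne.symm h0))
      have : Finite (C.residueField x) := Module.finite_of_finite k
      exact hne.elim (FiniteField.nonempty_algHom_iff_finrank_dvd.2 hd).some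
    · rfl

variable [IsIntegral C]

theorem isClosed_of_fibre_nonempty [Finite k] [IsProper f] (hdim : topologicalKrullDim C = 1)
    (k' : Type u) [Field k'] [Algebra k k'] [Finite k'] (x : C)
    (φ : { φ : C.residueField x ⟶ CommRingCat.of k' //
        φ.hom.comp (WC97.kStr f x) = algebraMap k k' }) : IsClosed ({x} : Set C) := by
  refine Crv77.isClosed_singleton hdim.le fun e => ?_
  subst e
  letI := kAlg f
  obtain ⟨t, ht, -⟩ := Cyc90.ff_functionField f hdim
  have : Finite C.functionField := Finite.of_injective
    (φ.1.hom.comp (C.residue (genericPoint C)).hom : C.functionField →+* k')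
    (RingHom.injective _)
  exact ht ((Algebra.IsAlgebraic.of_finite k C.functionField).isAlgebraic t)

/-- The number of points over a finite extension is the Frobenius sum over places. -/
theorem pointCount_eq [Finite k] [IsProper f] [Smooth f] (hdim : topologicalKrullDim C = 1)
    (k' : Type u) [Field k'] [Algebra k k'] [Finite k'] :
    letI := kAlg f
    SgaExt.pointCount f k' = FF30.frobSum k C.functionField (Module.finrank k k') := by
  classical
  letI := kAlg f
  obtain ⟨e, he⟩ := exists_pointEquiv f hdim
  set n := Module.finrank k k' with hn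
  have hn0 : n ≠ 0 := by
    have : Module.Finite k k' := Module.Finite.of_finite
    exact Module.finrank_pos.ne'
  have hfin := (Cyc90.ff_functionField f hdim).finite_dvd hn0
  let Fib := fun x : C => { φ : C.residueField x ⟶ CommRingCat.of k' //
    φ.hom.comp (WC97.kStr f x) = algebraMap k k' }
  rw [SgaExt.pointCount, Nat.card_congr ((pointsEquiv f k').trans
    (Equiv.sigmaSubtypeEquivOfSubset Fib (fun x => IsClosed ({x} : Set C))
      fun x φ => isClosed_of_fibre_nonempty f hdim k' x φ).symm)]
  have hcard : ∀ x : {x : C // IsClosed ({x} : Set C)}, Nat.card (Fib x.1) =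
      if (e x).deg ∣ n then (e x).deg else 0 := fun x => by
    rw [(he x).2]; exact card_fibre f k' x.1
  have : ∀ x : C, Finite (Fib x) := fun x => by
    rcases isEmpty_or_nonempty (Fib x) with h | ⟨⟨φ⟩⟩
    · infer_instance
    have : Finite (C.residueField x) :=
      Finite.of_injective (β := k') (φ.1.hom : C.residueField x → k') φ.1.hom.injective
    exact Finite.of_injective (fun ψ => ((ψ.1.hom : C.residueField x →+* k') : C.residueField x → k'))
      fun a b h => Subtype.ext (CommRingCat.hom_ext (DFunLike.coe_injective h))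
  let T := hfin.toFinset.map e.symm.toEmbedding
  have hT : ∀ x : {x : C // IsClosed ({x} : Set C)}, x ∈ T ↔ (e x).deg ∣ n := fun x => by
    simp [T]
  have hempty : ∀ x, Fib x.1 → x ∈ T := fun x φ => by
    rw [hT]
    by_contra h
    have h1 := hcard x
    rw [if_neg h] at h1
    exact (Nat.card_ne_zero.2 ⟨⟨φ⟩, inferInstance⟩) h1
  rw [Nat.card_congr (Equiv.sigmaSubtypeEquivOfSubset (fun x : {x : C // IsClosed ({x} : Set C)} => Fib x.1)
      (· ∈ T) hempty).symm, Nat.card_sigma, Finset.sum_coe_sort T fun x => Nat.card (Fib x.1),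
    FF30.frobSum, finsum_mem_eq_finite_toFinset_sum _ hfin, Finset.sum_map]
  refine Finset.sum_congr rfl fun P hP => ?_
  rw [hcard, Equiv.coe_toEmbedding, Equiv.apply_symm_apply, if_pos (show P.deg ∣ n from hfin.mem_toFinset.1 hP)]

end Groth.Agent.CrvFF30
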