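import Groth.Agent.FF30.RR
import Groth.Agent.FF30.Exist

/-! Functions regular away from two places modulo the sums: the genus. -/

set_option autoImplicit false

open FunFld WithZero

namespace Groth.Agent.CrvFF30

open FF30

variable {k K : Type*} [Field k] [Field K] [Algebra k K]

/-- Functions regular outside a set of places. -/
noncomputable def regOutside (S : Set (Place k K)) : Submodule k K where
  carrier := {z | ∀ P : Place k K, P ∉ S → P.1 z ≤ 1}
  add_mem' {x y} hx hy P hP := (P.1.map_add x y).trans (max_le (hx P hP) (hy P hP))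
  zero_mem' P _ := by simp
  smul_mem' c x hx P hP := by
    rw [Algebra.smul_def, map_mul]
    exact (mul_le_mul' (P.2.1 c) (hx P hP)).trans_eq (one_mul _)

theorem mem_regOutside {S : Set (Place k K)} {z : K} :
    z ∈ regOutside S ↔ ∀ P : Place k K, P ∉ S → P.1 z ≤ 1 := Iff.rfl

theorem mem_L_single_iff {P : Place k K} {n : ℕ} {z : K} :
    z ∈ L (Finsupp.single P (n : ℤ)) ↔ z ∈ regOutside {P} ∧ P.1 z ≤ exp (n : ℤ) := by
  classical
  constructor
  · intro h
    refine ⟨fun R hR => ?_, by simpa using h P⟩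
    simpa [Finsupp.single_apply, Ne.symm (Set.mem_singleton_iff.not.1 hR)] using h R
  · rintro ⟨h1, h2⟩ R
    by_cases hR : R = P
    · subst hR; simpa using h2
    · simpa [Finsupp.single_apply, Ne.symm hR] using h1 R hR

theorem mem_L_pair_iff {P Q : Place k K} (hPQ : P ≠ Q) {n : ℕ} {z : K} :
    z ∈ L (Finsupp.single P (n : ℤ) + Finsupp.single Q (n : ℤ)) ↔
      z ∈ regOutside {P, Q} ∧ P.1 z ≤ exp (n : ℤ) ∧ Q.1 z ≤ exp (n : ℤ) := by
  classical
  constructor
  · intro h
    refine ⟨fun R hR => ?_, by simpa [Finsupp.single_apply, hPQ.symm] using h P,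
      by simpa [Finsupp.single_apply, hPQ] using h Q⟩
    simp only [Set.mem_insert_iff, Set.mem_singleton_iff, not_or] at hR
    simpa [Finsupp.single_apply, Ne.symm hR.1, Ne.symm hR.2] using h R
  · rintro ⟨h1, h2, h3⟩ R
    by_cases hR : R = P
    · subst hR; simpa [Finsupp.single_apply, hPQ.symm] using h2
    by_cases hR' : R = Q
    · subst hR'; simpa [Finsupp.single_apply, hPQ] using h3
    · simpa [Finsupp.single_apply, Ne.symm hR, Ne.symm hR'] using h1 R (by simp [hR, hR'])

theorem val_le_exp_natAbs (P : Place k K) (z : K) : P.1 z ≤ exp ((P.ord z).natAbs : ℤ) := by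
  by_cases hz : z = 0
  · simp [hz]
  · rw [val_le_exp_iff P hz]; omega

/-- Regular outside two places, modulo regular outside one of them: dimension the genus. -/
theorem exists_quot_dim (h : IsFunctionField k K) {P Q : Place k K} (hPQ : P ≠ Q) :
    Module.Finite k (↥(regOutside {P, Q}) ⧸ (regOutside {P} ⊔ regOutside {Q}).submoduleOf (regOutside {P, Q})) ∧
    Module.finrank k (↥(regOutside {P, Q}) ⧸ (regOutside {P} ⊔ regOutside {Q}).submoduleOf (regOutside {P, Q})) =
      genus k K := by
  classical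
  have hF : FF k K := h.1
  set g := genus k K with hg
  let LP := fun n : ℕ => L (Finsupp.single P (n : ℤ) : Divisor k K)
  let LQ := fun n : ℕ => L (Finsupp.single Q (n : ℤ) : Divisor k K)
  let LL := fun n : ℕ => L (Finsupp.single P (n : ℤ) + Finsupp.single Q (n : ℤ) : Divisor k K)
  have := fun n : ℕ => hF.finite_L (Finsupp.single P (n : ℤ))
  have := fun n : ℕ => hF.finite_L (Finsupp.single Q (n : ℤ))
  have := fun n : ℕ => hF.finite_L (Finsupp.single P (n : ℤ) + Finsupp.single Q (n : ℤ))
  have hinf : ∀ n, LP n ⊓ LQ n = L (0 : Divisor k K) := fun n => by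
    refine le_antisymm (fun z hz R => ?_) (le_inf (L_mono ?_) (L_mono ?_))
    · rw [Submodule.mem_inf] at hz
      by_cases hR : R = P
      · subst hR
        simpa [Finsupp.single_apply, hPQ.symm] using hz.2 R
      · simpa [Finsupp.single_apply, Ne.symm hR] using hz.1 R
    · exact Finsupp.single_nonneg.mpr (by omega)
    · exact Finsupp.single_nonneg.mpr (by omega)
  have hle : ∀ n, LP n ⊔ LQ n ≤ LL n := fun n =>
    sup_le (L_mono (le_add_of_nonneg_right (Finsupp.single_nonneg.mpr (by omega))))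
      (L_mono (le_add_of_nonneg_left (Finsupp.single_nonneg.mpr (by omega))))
  have hdim : ∀ n, 2 * g ≤ n →
      Module.finrank k ↥(LP n ⊔ LQ n) + g = Module.finrank k (LL n) := fun n hn => by
    have h1 := Submodule.finrank_sup_add_finrank_inf_eq (LP n) (LQ n)
    rw [hinf] at h1
    have hP0 : (1 : ℤ) ≤ P.deg := by exact_mod_cast hF.deg_pos P
    have hQ0 : (1 : ℤ) ≤ Q.deg := by exact_mod_cast hF.deg_pos Q
    have hp := ell_eq_of_deg_gt h (D := Finsupp.single P (n : ℤ)) (by rw [deg_single]; nlinarith)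
    have hq := ell_eq_of_deg_gt h (D := Finsupp.single Q (n : ℤ)) (by rw [deg_single]; nlinarith)
    have hpq := ell_eq_of_deg_gt h (D := Finsupp.single P (n : ℤ) + Finsupp.single Q (n : ℤ))
      (by rw [deg_add, deg_single, deg_single]; nlinarith)
    rw [deg_single] at hp hq
    rw [deg_add, deg_single, deg_single] at hpq
    have h0 := ell_zero h
    unfold ell at hp hq hpq h0
    dsimp only [LP, LQ, LL] at h1 ⊢
    omega
  set N := 2 * g with hN
  let W := regOutside {P} ⊔ regOutside {Q}
  have hPW : ∀ n, LP n ⊔ LQ n ≤ W := fun n =>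
    sup_le_sup (fun z hz => (mem_L_single_iff.1 hz).1) (fun z hz => (mem_L_single_iff.1 hz).1)
  -- sums of small bound have small summands
  have hker : LL N ⊓ W = LP N ⊔ LQ N := by
    refine le_antisymm (fun z hz => ?_) (le_inf (hle N) (hPW N))
    obtain ⟨hzL, hzW⟩ := Submodule.mem_inf.1 hz
    obtain ⟨a, ha, b, hb, rfl⟩ := Submodule.mem_sup.1 hzW
    obtain ⟨-, h2, h3⟩ := (mem_L_pair_iff hPQ).1 hzL
    have h1N : (1 : WithZero (Multiplicative ℤ)) ≤ exp (N : ℤ) := by
      rw [← exp_zero, exp_le_exp]; omega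
    refine Submodule.mem_sup.2 ⟨a, mem_L_single_iff.2 ⟨ha, ?_⟩, b, mem_L_single_iff.2 ⟨hb, ?_⟩, rfl⟩
    · have := P.1.map_sub (a + b) b
      rw [add_sub_cancel_right] at this
      exact this.trans (max_le h2 ((hb P (by simpa using hPQ)).trans h1N))
    · have := Q.1.map_sub (a + b) a
      rw [add_sub_cancel_left] at this
      exact this.trans (max_le h3 ((ha Q (by simpa using hPQ.symm)).trans h1N))
  have hspan : regOutside {P, Q} ≤ W ⊔ LL N := by
    intro z hz
    set M := max N (max (P.ord z).natAbs (Q.ord z).natAbs) with hM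
    have hzM : z ∈ LL M := (mem_L_pair_iff hPQ).2 ⟨hz,
      (val_le_exp_natAbs P z).trans (exp_le_exp.2 (by omega)),
      (val_le_exp_natAbs Q z).trans (exp_le_exp.2 (by omega))⟩
    have hLM : LL N ≤ LL M := L_mono (add_le_add (Finsupp.single_le_single.mpr (by omega))
      (Finsupp.single_le_single.mpr (by omega)))
    have hi : (LP M ⊔ LQ M) ⊓ LL N = LP N ⊔ LQ N := by
      refine le_antisymm (fun w hw => hker ▸ ⟨hw.2, hPW M hw.1⟩) (le_inf ?_ (hle N))
      exact sup_le_sup (L_mono (Finsupp.single_le_single.mpr (by omega)))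
        (L_mono (Finsupp.single_le_single.mpr (by omega)))
    have heq : (LP M ⊔ LQ M) ⊔ LL N = LL M := by
      refine Submodule.eq_of_le_of_finrank_eq (sup_le (hle M) hLM) ?_
      have h1 := Submodule.finrank_sup_add_finrank_inf_eq (LP M ⊔ LQ M) (LL N)
      rw [hi] at h1
      have := hdim N le_rfl
      have := hdim M (by omega)
      omega
    rw [← heq] at hzM
    exact sup_le_sup_right (hPW M) _ hzM
  have hLA : LL N ≤ regOutside {P, Q} := fun z hz => ((mem_L_pair_iff hPQ).1 hz).1
  let φ : LL N →ₗ[k] ↥(regOutside {P, Q}) ⧸ W.submoduleOf (regOutside {P, Q}) :=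
    (Submodule.mkQ _).comp (Submodule.inclusion hLA)
  have hsurj : Function.Surjective φ := by
    intro x
    obtain ⟨⟨z, hz⟩, rfl⟩ := Submodule.mkQ_surjective _ x
    obtain ⟨w, hw, l, hl, rfl⟩ := Submodule.mem_sup.1 (hspan hz)
    refine ⟨⟨l, hl⟩, (Submodule.Quotient.eq _).2 ?_⟩
    show l - (w + l) ∈ W
    rw [sub_add_cancel_right]
    exact W.neg_mem hw
  have hk : LinearMap.ker φ = (LP N ⊔ LQ N).submoduleOf (LL N) := by
    ext z
    rw [LinearMap.mem_ker, LinearMap.comp_apply, Submodule.mkQ_apply, Submodule.Quotient.mk_eq_zero]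
    show (z : K) ∈ W ↔ (z : K) ∈ LP N ⊔ LQ N
    rw [← hker, Submodule.mem_inf, and_iff_right z.2]
  refine ⟨Module.Finite.of_surjective φ hsurj, ?_⟩
  have h1 := LinearMap.finrank_range_add_finrank_ker φ
  rw [LinearMap.range_eq_top.2 hsurj, finrank_top, hk,
    LinearEquiv.finrank_eq (Submodule.submoduleOfEquivOfLe (hle N))] at h1
  have := hdim N le_rfl
  simp only [W] at h1
  omega

end Groth.Agent.CrvFF30
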