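import Groth.Agent.CrvFF30.Count
import Groth.Agent.CrvFF30.MV
import Groth.Agent.CrvFF30.QuotDim
import Groth.Agent.Curves2.ProjectiveCurve
import Groth.Agent.QC70.FiniteType

/-! First cohomology of the structure sheaf of a curve and the genus of the function field. -/

set_option autoImplicit false
set_option linter.style.haveILetI false

universe u

open CategoryTheory AlgebraicGeometry TopologicalSpace IsLocalRing FunFld Opposite

namespace Groth.Agent.CrvFF30

section Sec

variable {C : Scheme.{u}} [IsIntegral C]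

/-- A section on a non-empty open as a rational function. -/
noncomputable def secToFF (W : C.Opens) (hW : genericPoint C ∈ W) :
    (Coh.toAb (Coh.structureModule C)).obj.obj (op W) →+ C.functionField :=
  (C.presheaf.germ W (genericPoint C) hW).hom.toAddMonoidHom

theorem secToFF_res {W W' : C.Opens} (h : W' ≤ W) (hW : genericPoint C ∈ W) (hW' : genericPoint C ∈ W')
    (s : (Coh.toAb (Coh.structureModule C)).obj.obj (op W)) :
    secToFF W' hW' ((Coh.toAb (Coh.structureModule C)).obj.map (homOfLE h).op s) = secToFF W hW s :=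
  C.presheaf.germ_res_apply (homOfLE h) (genericPoint C) hW' s

theorem secToFF_injective (W : C.Opens) (hW : genericPoint C ∈ W) :
    Function.Injective (secToFF W hW) :=
  germ_injective_of_isIntegral C (genericPoint C) hW

theorem secToFF_range (W : C.Opens) (hW : genericPoint C ∈ W) (z : C.functionField) :
    (∃ s, secToFF W hW s = z) ↔ ∀ y ∈ W, Curves2.RegAt y z := by
  refine ⟨?_, Curves2.exists_section_of_regAt W hW z⟩
  rintro ⟨s, rfl⟩ y hy
  exact ⟨C.presheaf.germ W y hy s, Curves2.algebraMap_germ y hy s⟩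

end Sec

variable {k : Type u} [Field k] [Finite k] {C : Scheme.{u}} [IsIntegral C]
  (f : C ⟶ Spec (CommRingCat.of k))

set_option maxHeartbeats 800000 in
/-- `#H¹(C, O) = q ^ g` for the genus `g` of the function field. -/
theorem card_H1 [IsProper f] [Smooth f] [GeometricallyIrreducible f]
    (hdim : topologicalKrullDim C = 1) :
    letI := kAlg f
    Nat.card (Coh.HH C (Coh.structureModule C) 1) = Nat.card k ^ genus k C.functionField := by
  classical
  letI := kAlg f
  have hK := isFunctionField f hdim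
  obtain ⟨e, he⟩ := exists_pointEquiv f hdim
  obtain ⟨t, ht, htfin⟩ := hK.1
  obtain ⟨P, hP⟩ := FF30.FF.exists_place_pos (k := k) (K := C.functionField) hK.1 ht
  obtain ⟨Q, hQ⟩ := FF30.FF.exists_place_neg (k := k) (K := C.functionField) hK.1 ht
  have hPQ : P ≠ Q := fun h => by rw [h] at hP; omega
  set x := e.symm P with hx
  set y := e.symm Q with hy
  have hxy : x.1 ≠ y.1 := fun h => hPQ (e.symm.injective (Subtype.ext h))
  letI : C.Over (Spec (CommRingCat.of k)) := ⟨f⟩
  have : IsProper (C ↘ Spec (CommRingCat.of k)) := ‹IsProper f›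
  let U : C.Opens := ⟨({x.1} : Set C)ᶜ, x.2.isOpen_compl⟩
  let V : C.Opens := ⟨({y.1} : Set C)ᶜ, y.2.isOpen_compl⟩
  have hU : IsAffineOpen U := Curves2.affine_compl_point (k := k) hdim x.1 x.2
  have hV : IsAffineOpen V := Curves2.affine_compl_point (k := k) hdim y.1 y.2
  have hgen : ∀ z : {z : C // IsClosed ({z} : Set C)}, genericPoint C ≠ z.1 := fun z h =>
    Cyc90.not_isClosed_generic hdim (by rw [h]; exact z.2)
  have hgU : genericPoint C ∈ U := hgen x
  have hgV : genericPoint C ∈ V := hgen y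
  have hgUV : genericPoint C ∈ U ⊓ V := ⟨hgU, hgV⟩
  have hUV : U ⊔ V = ⊤ := eq_top_iff.2 fun z _ => by
    by_cases h : z = x.1
    · exact Or.inr (show z ≠ y.1 from h ▸ hxy)
    · exact Or.inl h
  -- regular functions
  have hreg : ∀ (W : C.Opens) (hW : genericPoint C ∈ W) (S : Set (Place k C.functionField)),
      (∀ z : {z : C // IsClosed ({z} : Set C)}, z.1 ∈ W ↔ e z ∉ S) → ∀ z,
      (∃ s, secToFF W hW s = z) ↔ z ∈ regOutside S := by
    intro W hW S hS z
    rw [secToFF_range, mem_regOutside]
    refine ⟨fun h R hR => ?_, fun h w hw => ?_⟩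
    · obtain ⟨w, rfl⟩ := e.surjective R
      exact ((he w).1 z).2 (h w.1 ((hS w).2 hR))
    · by_cases hwc : IsClosed ({w} : Set C)
      · exact ((he ⟨w, hwc⟩).1 z).1 (h _ ((hS ⟨w, hwc⟩).1 hw))
      · have : w = genericPoint C := by
          by_contra hne
          exact hwc (Crv77.isClosed_singleton hdim.le hne)
        subst this
        exact Curves2.regAt_genericPoint z
  have heq : ∀ (w z : {z : C // IsClosed ({z} : Set C)}) (R : Place k C.functionField),
      z = e.symm R → (w.1 ≠ z.1 ↔ e w ≠ R) := fun w z R hz => by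
    rw [hz, ne_eq, ne_eq, ← Subtype.ext_iff, e.eq_symm_apply]
  have hrU := hreg U hgU {P} fun w => by
    rw [Set.mem_singleton_iff]; exact heq w x P hx
  have hrV := hreg V hgV {Q} fun w => by
    rw [Set.mem_singleton_iff]; exact heq w y Q hy
  have hrUV := hreg (U ⊓ V) hgUV {P, Q} fun w => by
    rw [Set.mem_insert_iff, Set.mem_singleton_iff, not_or]
    exact and_congr (heq w x P hx) (heq w y Q hy)
  obtain ⟨hfin, hdimg⟩ := exists_quot_dim hK hPQ
  let W := regOutside {P} ⊔ regOutside (k := k) {Q}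
  let A := regOutside (k := k) ({P, Q} : Set (Place k C.functionField))
  let ι : (Coh.toAb (Coh.structureModule C)).obj.obj (op (U ⊓ V)) →+ A :=
    { toFun := fun s => ⟨secToFF (U ⊓ V) hgUV s, (hrUV _).1 ⟨s, rfl⟩⟩
      map_zero' := Subtype.ext (map_zero _)
      map_add' := fun a b => Subtype.ext (map_add _ a b) }
  let d : (Coh.toAb (Coh.structureModule C)).obj.obj (op (U ⊓ V)) →+ A ⧸ W.submoduleOf A :=
    (Submodule.mkQ _).toAddMonoidHom.comp ι
  have hd : Function.Surjective d := by
    intro q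
    obtain ⟨a, rfl⟩ := Submodule.mkQ_surjective _ q
    obtain ⟨s, hs⟩ := (hrUV a.1).2 a.2
    exact ⟨s, congrArg (Submodule.mkQ _) (Subtype.ext hs : ι s = a)⟩
  have hker : ∀ s, d s = 0 ↔ ∃ (a : (Coh.toAb (Coh.structureModule C)).obj.obj (op U))
      (b : (Coh.toAb (Coh.structureModule C)).obj.obj (op V)),
      (Coh.toAb (Coh.structureModule C)).obj.map (homOfLE (inf_le_left : U ⊓ V ≤ U)).op a -
        (Coh.toAb (Coh.structureModule C)).obj.map (homOfLE (inf_le_right : U ⊓ V ≤ V)).op b = s := by
    intro s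
    have hds : d s = Submodule.Quotient.mk (ι s) := rfl
    rw [hds, Submodule.Quotient.mk_eq_zero, Submodule.submoduleOf, Submodule.mem_comap]
    change secToFF (U ⊓ V) hgUV s ∈ regOutside {P} ⊔ regOutside {Q} ↔ _
    rw [Submodule.mem_sup]
    constructor
    · rintro ⟨a, ha, b, hb, hab⟩
      obtain ⟨a', rfl⟩ := (hrU a).2 ha
      obtain ⟨b', rfl⟩ := (hrV b).2 hb
      refine ⟨a', -b', secToFF_injective _ hgUV ?_⟩
      rw [map_sub, secToFF_res _ hgU, secToFF_res _ hgV, map_neg, sub_neg_eq_add]
      exact hab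
    · rintro ⟨a, b, rfl⟩
      refine ⟨secToFF U hgU a, (hrU _).1 ⟨a, rfl⟩, secToFF V hgV (-b), (hrV _).1 ⟨-b, rfl⟩, ?_⟩
      show _ = secToFF (U ⊓ V) hgUV _
      rw [map_sub, secToFF_res _ hgU, secToFF_res _ hgV, map_neg, ← sub_eq_add_neg]
  have : (Coh.structureModule C).IsQuasicoherent := QC70.isQuasicoherent_unit (X := C)
  obtain ⟨E⟩ := nonempty_H1_equiv (Coh.toAb (Coh.structureModule C)) U V hUV
    (Coh69.qcoh_subsingleton_HE _ hU 0) (Coh69.qcoh_subsingleton_HE _ hV 0) d hd hker
  have : Module.Finite k (A ⧸ W.submoduleOf A) := hfin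
  rw [Nat.card_congr (((Coh69.hhEquiv _ 1).trans E).toEquiv), Module.natCard_eq_pow_finrank (K := k)]
  exact congrArg (Nat.card k ^ ·) hdimg

end Groth.Agent.CrvFF30
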