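import Groth.Agent.CrvFF30.Genus

/-! The Weil conjectures for curves. -/

set_option autoImplicit false
set_option linter.style.haveILetI false

universe u

open CategoryTheory AlgebraicGeometry FunFld

namespace Groth.Agent.CrvFF30

variable {k : Type u} [Field k] [Finite k] {C : Scheme.{u}}
  (f : C ⟶ Spec (CommRingCat.of k))

theorem exists_roots_full {K : Type*} [Field K] [Algebra k K] (hK : IsFunctionField k K) :
    ∃ α : Fin (2 * genus k K) → ℂ, (∀ i, IsIntegral ℤ (α i)) ∧ (∀ i, ‖α i‖ ^ 2 = Nat.card k) ∧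
      (∀ i, α (Fin.rev i) * α i = Nat.card k) ∧
      ∀ j, j ≠ 0 → (FF30.frobSum k K j : ℂ) = 1 + (Nat.card k : ℂ) ^ j - ∑ i, α i ^ j := by
  obtain ⟨α, hint, hser, hpair, hF⟩ := FF30.exists_roots hK
  obtain ⟨p, hp, -, -⟩ := FF30.exists_numer hK
  refine ⟨α, hint, fun i => ?_, fun i => by rw [mul_comm]; exact hpair i, hF⟩
  have hq : (Nat.card k : ℂ) ≠ 0 := Nat.cast_ne_zero.mpr Nat.card_pos.ne'
  have hi : α i ≠ 0 := fun h => hq (by rw [← hpair i, h, zero_mul])
  have hP : p.map (Int.castRingHom ℂ) = ∏ i, (1 - Polynomial.C (α i) * Polynomial.X) := by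
    refine Polynomial.coe_inj.mp ?_
    rw [Polynomial.polynomial_map_coe, hp, hser]
  have hroot : (p.map (Int.castRingHom ℂ)).IsRoot (α i)⁻¹ := by
    rw [Polynomial.IsRoot.def, hP, Polynomial.eval_prod, Finset.prod_eq_zero_iff]
    exact ⟨i, Finset.mem_univ i, by simp [mul_inv_cancel₀ hi]⟩
  have h1 := FF30.root_norm hK p hp _ hroot
  rw [norm_inv] at h1
  have h2 : ‖α i‖ ≠ 0 := norm_ne_zero_iff.2 hi
  field_simp at h1
  exact h1.symm

/-- The Weil conjectures for a curve. -/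
theorem weil_curve (hC : Curve.IsSmoothProperCurve k C f) [GeometricallyIrreducible f] (g : ℕ)
    (hg : Nat.card (Coh.HH C (Coh.structureModule C) 1) = Nat.card k ^ g) :
    ∃ α : Fin (2 * g) → ℂ, (∀ i, IsIntegral ℤ (α i)) ∧ (∀ i, ‖α i‖ ^ 2 = Nat.card k) ∧
      (∃ σ : Equiv.Perm (Fin (2 * g)), ∀ i, α (σ i) * α i = Nat.card k) ∧
      ∀ (k' : Type u) [Field k'] [Algebra k k'] [Finite k'],
        (SgaExt.pointCount f k' : ℂ) =
          (Nat.card k : ℂ) ^ Module.finrank k k' + 1 - ∑ i, α i ^ Module.finrank k k' := by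
  obtain ⟨_, _, _, hdim⟩ := hC
  letI := kAlg f
  obtain rfl : g = genus k C.functionField :=
    Nat.pow_right_injective Finite.one_lt_card (hg.symm.trans (card_H1 f hdim))
  obtain ⟨α, hint, hnorm, hpair, hF⟩ := exists_roots_full (isFunctionField f hdim)
  refine ⟨α, hint, hnorm, ⟨Fin.revPerm, fun i => hpair i⟩, fun k' _ _ _ => ?_⟩
  have : Module.Finite k k' := Module.Finite.of_finite
  rw [pointCount_eq f hdim k', hF _ Module.finrank_pos.ne', add_comm 1]

/-- There are closed points of coprime degrees. -/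
theorem exists_coprime_deg {K : Type*} [Field K] [Algebra k K] (hK : IsFunctionField k K) :
    ∃ P Q : Place k K, Nat.Coprime P.deg Q.deg := by
  classical
  obtain ⟨c, N, hlow⟩ := FF30.frobSum_ge hK
  set s := Real.sqrt (Nat.card k : ℝ) with hs
  have h1s : 1 < s := by
    rw [hs, Real.lt_sqrt zero_le_one, one_pow]
    exact_mod_cast Finite.one_lt_card
  obtain ⟨M, hM⟩ := pow_unbounded_of_one_lt (max (c + 1) (FF30.frobSum k K 1 : ℝ)) h1s
  have key : ∀ l : ℕ, l.Prime → max N M ≤ l → ∃ P : Place k K, P.deg = l := by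
    intro l hl hbig
    by_contra hne
    have h2 : FF30.frobSum k K l = FF30.frobSum k K 1 := by
      refine congrArg (fun S : Set (Place k K) => ∑ᶠ P ∈ S, P.deg) (Set.ext fun P => ?_)
      simp only [Set.mem_setOf_eq, Nat.dvd_prime hl, Nat.dvd_one]
      exact or_iff_left fun h => hne ⟨P, h⟩
    have h3 : max (c + 1) (FF30.frobSum k K 1 : ℝ) < s ^ l :=
      hM.trans_le (pow_le_pow_right₀ h1s.le (by omega))
    obtain ⟨h4, h5⟩ := max_lt_iff.1 h3
    have h6 := hlow l (by omega)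
    rw [h2] at h6
    have h7 : (Nat.card k : ℝ) ^ l = s ^ l * s ^ l := by
      rw [← mul_pow, hs, Real.mul_self_sqrt (Nat.cast_nonneg _)]
    nlinarith [pow_pos (zero_lt_one.trans h1s) l]
  obtain ⟨a, ha, hpa⟩ := Nat.exists_infinite_primes (max N M)
  obtain ⟨b, hb, hpb⟩ := Nat.exists_infinite_primes (a + 1)
  obtain ⟨P, hP⟩ := key a hpa ha
  obtain ⟨Q, hQ⟩ := key b hpb (by omega)
  exact ⟨P, Q, by rw [hP, hQ]; exact (Nat.coprime_primes hpa hpb).2 (by omega)⟩

end Groth.Agent.CrvFF30
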